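import Groth.Agent.H19Grp.HopfReduced
import Groth.Agent.H20Comod.Basic

/-!
A connected affine algebraic group is separated by the powers of the augmentation ideal.
-/

set_option autoImplicit false

universe u v

namespace Groth.Agent.H20Grp

open H19Grp.HopfReduced

variable {k : Type u} [Field k] {A : Type v} [CommRing A] [HopfAlgebra k A]

/-- translation as an automorphism -/
noncomputable def tauPt (g : A →ₐ[k] k) : A ≃ₐ[k] A :=
  AlgEquiv.ofAlgHom (T g) (T (g.comp (HopfAlgebra.antipodeAlgHom k A))) (T_antipode g).1 (T_antipode g).2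

theorem exists_moveIdeal (p q : Ideal A) :
    ∃ I : Ideal A, ∀ g : A →ₐ[k] k, I ≤ RingHom.ker g ↔ ∀ f ∈ p, T g f ∈ q := by
  let Q := A ⧸ q
  refine ⟨Ideal.span {x | ∃ f ∈ p, ∃ ℓ : Q →ₗ[k] k,
    x = H20Comod.sliceR (ℓ ∘ₗ (Ideal.Quotient.mkₐ k q).toLinearMap) (Coalgebra.comul (R := k) f)}, fun g => ?_⟩
  have key : ∀ (ℓ : Q →ₗ[k] k) (f : A),
      g (H20Comod.sliceR (ℓ ∘ₗ (Ideal.Quotient.mkₐ k q).toLinearMap) (Coalgebra.comul (R := k) f)) =
        ℓ (Ideal.Quotient.mk q (T g f)) := by
    intro ℓ f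
    let R := Coalgebra.Repr.arbitrary k f
    rw [T_repr g R, ← R.eq]
    simp only [map_sum, H20Comod.sliceR_tmul, map_smul, LinearMap.comp_apply, AlgHom.toLinearMap_apply,
      Ideal.Quotient.mkₐ_eq_mk, smul_eq_mul]
    refine Finset.sum_congr rfl fun i _ => ?_
    rw [Algebra.smul_def (g _), map_mul, Ideal.Quotient.mk_algebraMap, ← Algebra.smul_def, map_smul, smul_eq_mul,
      mul_comm]
  constructor
  · intro h f hf
    rw [← Ideal.Quotient.eq_zero_iff_mem, ← Module.forall_dual_apply_eq_zero_iff k]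
    intro ℓ
    rw [← key]
    exact h (Ideal.subset_span ⟨f, hf, ℓ, rfl⟩)
  · intro h
    refine Ideal.span_le.mpr ?_
    rintro _ ⟨f, hf, ℓ, rfl⟩
    rw [SetLike.mem_coe, RingHom.mem_ker, key, Ideal.Quotient.eq_zero_iff_mem.mpr (h f hf), map_zero]

theorem map_tau_eq_iff (g : A →ₐ[k] k) (p q : Ideal A) :
    p.map (tauPt g : A →+* A) = q ↔
      (∀ f ∈ p, T g f ∈ q) ∧ ∀ f ∈ q, T (g.comp (HopfAlgebra.antipodeAlgHom k A)) f ∈ p := by
  constructor
  · rintro rfl
    refine ⟨fun f hf => Ideal.mem_map_of_mem (tauPt g : A →+* A) hf, fun f hf => ?_⟩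
    obtain ⟨x, hx, rfl⟩ := (Ideal.mem_map_iff_of_surjective (tauPt g : A →+* A) (tauPt g).surjective).mp hf
    have : (tauPt g).symm (tauPt g x) = x := (tauPt g).symm_apply_apply x
    show T (g.comp (HopfAlgebra.antipodeAlgHom k A)) (tauPt g x) ∈ p
    rw [show T (g.comp (HopfAlgebra.antipodeAlgHom k A)) (tauPt g x) = x from this]
    exact hx
  · rintro ⟨h1, h2⟩
    refine le_antisymm (Ideal.map_le_iff_le_comap.mpr h1) fun f hf => ?_
    have := Ideal.mem_map_of_mem (tauPt g : A →+* A) (h2 f hf)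
    have e : tauPt g (T (g.comp (HopfAlgebra.antipodeAlgHom k A)) f) = f := (tauPt g).apply_symm_apply f
    exact e ▸ this

theorem tau_mem_associatedPrimes [IsNoetherianRing A] (g : A →ₐ[k] k) {p : Ideal A} (hp : p ∈ associatedPrimes A A) :
    p.map (tauPt g : A →+* A) ∈ associatedPrimes A A := by
  obtain ⟨hpp, y, hy⟩ := isAssociatedPrime_iff.mp hp
  refine isAssociatedPrime_iff.mpr ⟨Ideal.map_isPrime_of_equiv (tauPt g).toRingEquiv (I := p), tauPt g y, ?_⟩
  ext f
  rw [Submodule.mem_colon_singleton, Submodule.mem_bot, smul_eq_mul]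
  constructor
  · intro hf
    obtain ⟨x, hx, rfl⟩ := (Ideal.mem_map_iff_of_surjective (tauPt g : A →+* A) (tauPt g).surjective).mp hf
    rw [hy, Submodule.mem_colon_singleton, Submodule.mem_bot, smul_eq_mul] at hx
    show tauPt g x * tauPt g y = 0
    rw [← map_mul, hx, map_zero]
  · intro hf
    obtain ⟨x, rfl⟩ := (tauPt g).surjective f
    refine Ideal.mem_map_of_mem (tauPt g : A →+* A) ?_
    rw [hy, Submodule.mem_colon_singleton, Submodule.mem_bot, smul_eq_mul]
    exact (tauPt g).injective (by rw [map_mul, hf, map_zero])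

variable [IsAlgClosed k] [Algebra.FiniteType k A]

theorem map_tau_eq_self (hconn : ∀ e : A, IsIdempotentElem e → e = 0 ∨ e = 1) [IsNoetherianRing A]
    {p : Ideal A} (hp : p ∈ associatedPrimes A A) (g : A →ₐ[k] k) : p.map (tauPt g : A →+* A) = p := by
  classical
  haveI : Finite (associatedPrimes A A) := (associatedPrimes.finite A A).to_subtype
  choose I hI using fun q : Ideal A => exists_moveIdeal (k := k) p q
  choose I' hI' using fun q : Ideal A => exists_moveIdeal (k := k) q p
  let S : A →ₐ[k] A := HopfAlgebra.antipodeAlgHom k A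
  let J : associatedPrimes A A → Ideal A := fun q => I q.1 ⊔ (I' q.1).map S.toRingHom
  have hJ : ∀ (q : associatedPrimes A A) (h : A →ₐ[k] k), J q ≤ RingHom.ker h ↔ p.map (tauPt h : A →+* A) = q.1 := by
    intro q h
    rw [map_tau_eq_iff, sup_le_iff, hI]
    refine and_congr_right fun _ => ?_
    rw [Ideal.map_le_iff_le_comap]
    exact (hI' q.1 (h.comp S))
  have hpair : Pairwise (fun q q' => IsCoprime (J q) (J q')) := by
    intro q q' hne
    rw [Ideal.isCoprime_iff_sup_eq]
    by_contra h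
    obtain ⟨x, hx⟩ := H20Comod.exists_point_le_ker (k := k) h
    exact hne (Subtype.ext (((hJ q x).mp (le_sup_left.trans hx)).symm.trans ((hJ q' x).mp (le_sup_right.trans hx))))
  obtain ⟨e, he⟩ := Ideal.exists_forall_sub_mem_ideal hpair fun q => if q = ⟨p, hp⟩ then 1 else 0
  have hval : ∀ h : A →ₐ[k] k, h e = if p.map (tauPt h : A →+* A) = p then 1 else 0 := by
    intro h
    have hq := (hJ ⟨_, tau_mem_associatedPrimes h hp⟩ h).mpr rfl (he ⟨_, tau_mem_associatedPrimes h hp⟩)
    simp only [RingHom.mem_ker, map_sub, sub_eq_zero] at hq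
    rw [hq]
    simp only [Subtype.mk.injEq]
    split_ifs <;> simp
  have hnil : ∀ a : A, (∀ h : A →ₐ[k] k, h a = 0) → IsNilpotent a := fun a ha => by
    by_contra hn
    obtain ⟨x, hx⟩ := H19Grp.PointLift.exists_point_apply_ne_zero (k := k) hn
    exact hx (ha x)
  have hee : IsNilpotent (e * e - e) := hnil _ fun h => by rw [map_sub, map_mul, hval]; split_ifs <;> simp
  obtain ⟨e', he', hee'⟩ := exists_isIdempotentElem_eq_of_ker_isNilpotent (Ideal.Quotient.mk (nilradical A))
    (fun x hx => mem_nilradical.mp (Ideal.Quotient.eq_zero_iff_mem.mp hx)) (Ideal.Quotient.mk _ e) ⟨e, rfl⟩ (by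
      rw [IsIdempotentElem, ← map_mul, Ideal.Quotient.eq]
      exact mem_nilradical.mpr hee)
  have hdiff : IsNilpotent (e' - e) := mem_nilradical.mp (Ideal.Quotient.eq.mp hee')
  have hh : ∀ h : A →ₐ[k] k, h e' = h e := fun h => sub_eq_zero.mp (by rw [← map_sub]; exact (hdiff.map h).eq_zero)
  have hone : Bialgebra.counitAlgHom k A e = 1 := by
    rw [hval, if_pos]
    have : (tauPt (Bialgebra.counitAlgHom k A) : A →+* A) = RingHom.id A := RingHom.ext fun a => by
      show T (Bialgebra.counitAlgHom k A) a = a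
      rw [T_one]; rfl
    rw [this, Ideal.map_id]
  have he1 : e' = 1 := (hconn e' he').resolve_left fun h0 => by
    have := hh (Bialgebra.counitAlgHom k A)
    rw [h0, map_zero, hone] at this
    exact zero_ne_one this
  have hg := hval g
  rw [← hh, he1, map_one] at hg
  by_contra hne
  rw [if_neg hne] at hg
  exact one_ne_zero hg

theorem iInf_pow_eq_bot (hconn : ∀ e : A, IsIdempotentElem e → e = 0 ∨ e = 1) :
    (⨅ n : ℕ, RingHom.ker (Bialgebra.counitAlgHom k A) ^ n) = ⊥ := by
  haveI : IsNoetherianRing A := Algebra.FiniteType.isNoetherianRing k A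
  set m := RingHom.ker (Bialgebra.counitAlgHom k A) with hm
  refine eq_bot_iff.mpr fun x hx => ?_
  rw [Submodule.mem_bot]
  by_contra hne
  obtain ⟨p, hp, hle⟩ := exists_le_isAssociatedPrime_of_isNoetherianRing (R := A) (M := A) x hne
  have hpm : p ≤ m := by
    obtain ⟨g, hg⟩ := H20Comod.exists_point_le_ker (k := k) hp.1.ne_top
    intro f hf
    have hf' : T (g.comp (HopfAlgebra.antipodeAlgHom k A)) f ∈ p :=
      ((map_tau_eq_iff g p p).mp (map_tau_eq_self hconn hp g)).2 f hf
    have h0 := hg hf'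
    rw [RingHom.mem_ker, ← counit_T g, ← AlgHom.comp_apply, (T_antipode g).1] at h0
    exact h0
  obtain ⟨r, hr⟩ := (Ideal.mem_iInf_smul_pow_eq_bot_iff (I := m) x).mp (by simpa using hx)
  have h1 : 1 - (r : A) ∈ p := hle (by
    rw [Submodule.mem_colon_singleton, Submodule.mem_bot, sub_smul, one_smul, hr, sub_self])
  have h2 : (1 : A) ∈ m := by simpa using add_mem (hpm h1) r.2
  rw [hm, RingHom.mem_ker, map_one] at h2
  exact one_ne_zero h2

end Groth.Agent.H20Grp
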